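import Cfsg.Agent.Lib.Coprime.DerivedBound.Main

/-!
# The derived bound for an action by automorphisms

The action is turned into an inner one inside the semidirect product.
-/

set_option autoImplicit false

open Subgroup

open scoped commutatorElement

namespace CfsgLib.Coprime.DerivedBound

theorem card_commutator_le_of_action {A G : Type*} [Group A] [Finite A] [Group G] [Finite G]
    [MulDistribMulAction A G] {q m : ℕ} (hq : q.Prime) (hA : Nat.card A = q ^ 3)
    (hAc : ∀ a b : A, a * b = b * a) (hAe : ∀ a : A, a ^ q = 1) (hcop : ¬ q ∣ Nat.card G)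
    (hm : ∀ a : A, a ≠ 1 →
      Nat.card ↥(commutator ↥(FixedPoints.subgroup (Subgroup.zpowers a) G)) ≤ m) :
    Nat.card ↥(commutator G) ≤ bound q m := by
  set X := G ⋊[MulDistribMulAction.toMulAut A G] A
  haveI : Finite X := Finite.of_equiv _ SemidirectProduct.equivProd.symm
  set i : G →* X := SemidirectProduct.inl
  set j : A →* X := SemidirectProduct.inr
  have hi : Function.Injective i := SemidirectProduct.inl_injective
  have hj : Function.Injective j := SemidirectProduct.inr_injective
  have hact : ∀ (a : A) (g : G), i (a • g) = j a * i g * (j a)⁻¹ := fun a g => by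
    rw [← map_inv j]; exact SemidirectProduct.inl_aut (φ := MulDistribMulAction.toMulAut A G) a g
  haveI : IsMulCommutative j.range := ⟨⟨by
    rintro ⟨_, a, rfl⟩ ⟨_, b, rfl⟩
    exact Subtype.ext (by show j a * j b = j b * j a; rw [← map_mul, hAc, map_mul])⟩⟩
  have hcardA : Nat.card j.range = q ^ 3 := by
    rw [← hA]; exact (Nat.card_congr (MonoidHom.ofInjective hj).toEquiv).symm
  have hcardK : Nat.card i.range = Nat.card G := (Nat.card_congr (MonoidHom.ofInjective hi).toEquiv).symm
  have h := card_commutator_le (A := j.range) (K := i.range) hq hcardA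
    (by rintro _ ⟨a, rfl⟩; rw [← map_pow, hAe, map_one])
    (by
      rintro _ ⟨a, rfl⟩
      refine mem_normalizer_iff.2 fun y => ⟨?_, fun ⟨g, hg⟩ => ⟨a⁻¹ • g, ?_⟩⟩
      · rintro ⟨g, rfl⟩; exact ⟨a • g, hact a g⟩
      · rw [hact, hg, map_inv, inv_inv]
        simp only [mul_assoc, inv_mul_cancel, mul_one, inv_mul_cancel_left])
    (by rw [hcardA, hcardK]; exact ((hq.coprime_iff_not_dvd).2 hcop).pow_left 3)
    (m := m) (by
      rintro _ ⟨a, rfl⟩ ha
      have ha1 : a ≠ 1 := fun h => ha (by rw [h, map_one])
      refine le_trans (le_of_eq ?_) (hm a ha1)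
      set F := FixedPoints.subgroup (Subgroup.zpowers a) G with hF
      have hmap : F.map i = i.range ⊓ centralizer {j a} := by
        ext y
        constructor
        · rintro ⟨g, hg, rfl⟩
          refine ⟨⟨g, rfl⟩, mem_centralizer_iff.2 fun s hs => ?_⟩
          rw [Set.mem_singleton_iff.1 hs]
          have h1 : a • g = g := hg ⟨a, mem_zpowers a⟩
          have h2 := hact a g
          rw [h1] at h2
          calc j a * i g = j a * i g * (j a)⁻¹ * j a := by rw [inv_mul_cancel_right]
            _ = i g * j a := by rw [← h2]
        · rintro ⟨⟨g, rfl⟩, hg⟩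
          refine ⟨g, fun b => ?_, rfl⟩
          obtain ⟨b, k, rfl⟩ := b
          have h1 : a • g = g := hi (by
            rw [hact, mem_centralizer_iff.1 hg (j a) rfl, mul_inv_cancel_right])
          exact (show a ∈ MulAction.stabilizer A g from h1) |> fun h => zpow_mem h k
      rw [← hmap, ← map_commutator, card_map_of_injective hi,
        ← Nat.card_congr (equivMapOfInjective (commutator F) F.subtype F.subtype_injective).symm.toEquiv,
        map_subtype_commutator])
  refine le_trans (le_of_eq ?_) h
  rw [MonoidHom.range_eq_map, ← map_commutator, ← _root_.commutator_def, card_map_of_injective hi]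

end CfsgLib.Coprime.DerivedBound
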