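import Mathlib

/-!
# Elementary bounds: groups generated by few small subgroups, Schur, filtrations
-/

set_option autoImplicit false

open scoped Pointwise commutatorElement

namespace CfsgLib.Coprime.DerivedBound

variable {G : Type*} [Group G]

theorem card_sup_le [Finite G] {H K : Subgroup G} (h : K ≤ Subgroup.normalizer (H : Set G)) :
    Nat.card ↥(H ⊔ K) ≤ Nat.card H * Nat.card K := by
  have e : Nat.card ↥(H ⊔ K) = Nat.card ↥((H : Set G) * (K : Set G) : Set G) := by
    rw [← Subgroup.coe_mul_of_right_le_normalizer_left H K h]; rfl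
  rw [e]
  refine le_trans (Nat.card_le_card_of_surjective
    (fun x : H × K => (⟨(x.1 : G) * x.2, Set.mul_mem_mul x.1.2 x.2.2⟩ :
      ↥((H : Set G) * (K : Set G) : Set G))) ?_) (Nat.card_prod _ _).le
  rintro ⟨_, a, ha, b, hb, rfl⟩
  exact ⟨(⟨a, ha⟩, ⟨b, hb⟩), rfl⟩

/-- An abelian group generated by finitely many subgroups. -/
theorem card_le_prod_of_comm [Finite G] (hc : ∀ a b : G, a * b = b * a) {ι : Type*}
    (s : Finset ι) (S : ι → Subgroup G) (h : (⊤ : Subgroup G) ≤ ⨆ i ∈ s, S i) :
    Nat.card G ≤ ∏ i ∈ s, Nat.card (S i) := by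
  classical
  suffices ∀ t : Finset ι, Nat.card ↥(⨆ i ∈ t, S i) ≤ ∏ i ∈ t, Nat.card (S i) by
    have := (Subgroup.card_le_of_le h).trans (this s)
    rwa [Subgroup.card_top] at this
  intro t
  induction t using Finset.induction_on with
  | empty => rw [Finset.prod_empty]; simp
  | @insert i t hi ih =>
    rw [Finset.iSup_insert, Finset.prod_insert hi]
    refine (card_sup_le ?_).trans (Nat.mul_le_mul_left _ ih)
    exact fun x _ => Subgroup.mem_normalizer_iff.2 fun y => by
      rw [hc x y, mul_inv_cancel_right]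

/-- Schur's bound in terms of the index of the centre. -/
theorem card_commutator_le_of_index_center [Finite G] {i : ℕ}
    (h : (Subgroup.center G).index ≤ i) : Nat.card (commutator G) ≤ i ^ (i * (i * i) + 1) := by
  set Z := Subgroup.center G
  have hset : Nat.card (commutatorSet G) ≤ Z.index * Z.index := by
    rw [Subgroup.index_eq_card, ← Nat.card_prod]
    refine Nat.card_le_card_of_surjective
      (fun x : (G ⧸ Z) × (G ⧸ Z) => (⟨⁅x.1.out, x.2.out⁆, x.1.out, x.2.out, rfl⟩ : commutatorSet G)) ?_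
    rintro ⟨_, a, b, rfl⟩
    refine ⟨((a : G ⧸ Z), (b : G ⧸ Z)), Subtype.ext ?_⟩
    obtain ⟨⟨u, hu⟩, hua⟩ := QuotientGroup.mk_out_eq_mul Z a
    obtain ⟨⟨v, hv⟩, hvb⟩ := QuotientGroup.mk_out_eq_mul Z b
    show ⁅(a : G ⧸ Z).out, (b : G ⧸ Z).out⁆ = ⁅a, b⁆
    rw [hua, hvb]
    have hu' := Subgroup.mem_center_iff.1 hu
    have hv' := Subgroup.mem_center_iff.1 hv
    calc ⁅a * u, b * v⁆ = a * (u * (b * v)) * u⁻¹ * a⁻¹ * v⁻¹ * b⁻¹ := by
          simp only [commutatorElement_def]; group
      _ = a * b * (v * a⁻¹) * v⁻¹ * b⁻¹ := by rw [← hu' (b * v)]; group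
      _ = ⁅a, b⁆ := by rw [← hv' a⁻¹, commutatorElement_def]; group
  have hpos : 0 < i := lt_of_lt_of_le (Nat.pos_of_ne_zero Subgroup.index_ne_zero_of_finite) h
  calc Nat.card (commutator G) ≤ Z.index ^ (Z.index * Nat.card (commutatorSet G) + 1) :=
        Nat.le_of_dvd (pow_pos (Nat.pos_of_ne_zero Subgroup.index_ne_zero_of_finite) _)
          (Subgroup.card_commutator_dvd_index_center_pow G)
    _ ≤ i ^ (Z.index * Nat.card (commutatorSet G) + 1) := Nat.pow_le_pow_left h _
    _ ≤ i ^ (i * (i * i) + 1) := by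
        refine Nat.pow_le_pow_right hpos (Nat.add_le_add_right (Nat.mul_le_mul h ?_) 1)
        exact hset.trans (Nat.mul_le_mul h h)

/-- A nilpotent image of a group whose lower central terms are generated by their intersections
with given subgroups: its order is at most the product of their images. -/
theorem card_range_le_prod [Finite G] [Group.IsNilpotent G] {T : Type*} [Group T] [Finite T]
    (θ : G →* T) {ι : Type*} (s : Finset ι) (C : ι → Subgroup G)
    (hgen : ∀ i : ℕ, (⊤ : Subgroup G).lowerCentralSeries i ≤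
      ⨆ b ∈ s, (⊤ : Subgroup G).lowerCentralSeries i ⊓ C b) :
    Nat.card θ.range ≤ ∏ b ∈ s, Nat.card ((C b).map θ) := by
  classical
  obtain ⟨c, hc⟩ := (Subgroup.nilpotent_iff_lowerCentralSeries (G := G)).mp ‹_›
  set γ : ℕ → Subgroup G := fun i => (⊤ : Subgroup G).lowerCentralSeries i with hγ
  suffices key : ∀ j i, i + j = c →
      Nat.card ((γ i).map θ) ≤ ∏ b ∈ s, Nat.card ((γ i ⊓ C b).map θ) by
    have h0 := key c 0 (Nat.zero_add c)
    simp only [hγ, Subgroup.lowerCentralSeries_zero, top_inf_eq] at h0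
    rwa [MonoidHom.range_eq_map]
  intro j
  induction j with
  | zero =>
    intro i hi
    rw [Nat.add_zero] at hi
    subst hi
    rw [show γ i = ⊥ from hc, Subgroup.map_bot, Subgroup.card_bot]
    exact Finset.one_le_prod' fun b _ => Nat.card_pos
  | succ j ih =>
    intro i hi
    have hrec := ih (i + 1) (by omega)
    have hle : γ (i + 1) ≤ γ i := Subgroup.lowerCentralSeries_antitone _ (Nat.le_succ i)
    set U := (γ i).map θ with hU
    set W := ((γ (i + 1)).map θ).subgroupOf U with hW
    haveI : W.Normal := by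
      refine ⟨fun w hw u => ?_⟩
      rw [hW, Subgroup.mem_subgroupOf] at hw ⊢
      obtain ⟨x, hx, hxw⟩ := hw
      obtain ⟨y, hy, hyu⟩ := u.2
      refine ⟨y * x * y⁻¹, Subgroup.Normal.conj_mem inferInstance x hx y, ?_⟩
      simp [hxw, hyu]
    let S : ι → Subgroup (U ⧸ W) := fun b =>
      (((γ i ⊓ C b).map θ).subgroupOf U).map (QuotientGroup.mk' W)
    have hcomm : ∀ a b : U ⧸ W, a * b = b * a := by
      intro a b
      induction a using QuotientGroup.induction_on with
      | H a =>
        induction b using QuotientGroup.induction_on with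
        | H b =>
          obtain ⟨x, hx, hxa⟩ := a.2
          obtain ⟨y, hy, hyb⟩ := b.2
          rw [← QuotientGroup.mk_mul, ← QuotientGroup.mk_mul, QuotientGroup.eq, hW,
            Subgroup.mem_subgroupOf]
          refine ⟨⁅y⁻¹, x⁻¹⁆, Subgroup.commutator_mem_commutator ((γ i).inv_mem hy) (Subgroup.mem_top _), ?_⟩
          simp [commutatorElement_def, hxa, hyb, mul_assoc]
    have htop : (⊤ : Subgroup (U ⧸ W)) ≤ ⨆ b ∈ s, S b := by
      intro z _
      induction z using QuotientGroup.induction_on with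
      | H z =>
        obtain ⟨x, hx, hxz⟩ := z.2
        let f : γ i →* U ⧸ W := (QuotientGroup.mk' W).comp
          ((θ.comp (γ i).subtype).codRestrict U fun y => ⟨y, y.2, rfl⟩)
        have hfz : f ⟨x, hx⟩ = (z : U ⧸ W) :=
          congrArg (QuotientGroup.mk' W) (Subtype.ext hxz : (⟨θ x, ⟨x, hx, rfl⟩⟩ : U) = z)
        rw [← hfz]
        have hsub : (⊤ : Subgroup (γ i)) ≤ (⨆ b ∈ s, S b).comap f := by
          have h1 : γ i ≤ ((⨆ b ∈ s, S b).comap f).map (γ i).subtype := by
            refine (hgen i).trans (iSup₂_le fun b hb y hy => ?_)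
            refine ⟨⟨y, hy.1⟩, ?_, rfl⟩
            refine le_iSup₂ (f := fun b _ => S b) b hb ?_
            exact ⟨⟨θ y, y, hy.1, rfl⟩, ⟨y, hy, rfl⟩, rfl⟩
          intro y _
          obtain ⟨y', hy', e⟩ := h1 y.2
          exact (show y' = y from Subtype.ext e) ▸ hy'
        exact hsub (Subgroup.mem_top _)
    have hquot := card_le_prod_of_comm hcomm s S htop
    have hsplit : ∀ b, Nat.card (S b) * Nat.card ((γ (i + 1) ⊓ C b).map θ) ≤
        Nat.card ((γ i ⊓ C b).map θ) := by
      intro b
      set H := ((γ i ⊓ C b).map θ).subgroupOf U with hH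
      let g : H →* U ⧸ W := (QuotientGroup.mk' W).comp H.subtype
      have hr : Nat.card (S b) = g.ker.index := by
        rw [Subgroup.index_ker, MonoidHom.range_comp, Subgroup.range_subtype]
      have hk : Nat.card ((γ (i + 1) ⊓ C b).map θ) ≤ Nat.card g.ker := by
        have hmem : ∀ x ∈ (γ (i + 1) ⊓ C b).map θ, x ∈ U := by
          rintro _ ⟨y, hy, rfl⟩; exact ⟨y, hle hy.1, rfl⟩
        refine Nat.card_le_card_of_injective (fun x => ⟨⟨⟨x, hmem x x.2⟩, ?_⟩, ?_⟩) ?_
        · rw [hH, Subgroup.mem_subgroupOf]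
          obtain ⟨y, hy, e⟩ := x.2
          exact ⟨y, ⟨hle hy.1, hy.2⟩, e⟩
        · rw [MonoidHom.mem_ker]
          show ((⟨x, hmem x x.2⟩ : U) : U ⧸ W) = 1
          rw [QuotientGroup.eq_one_iff, hW, Subgroup.mem_subgroupOf]
          obtain ⟨y, hy, e⟩ := x.2
          exact ⟨y, hy.1, e⟩
        · intro x y e
          exact Subtype.ext (congrArg (fun z : g.ker => ((z : H) : U).1) e)
      have hHc : Nat.card H = Nat.card ((γ i ⊓ C b).map θ) :=
        Nat.card_congr (Subgroup.subgroupOfEquivOfLe (Subgroup.map_mono inf_le_left)).toEquiv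
      calc Nat.card (S b) * Nat.card ((γ (i + 1) ⊓ C b).map θ)
          ≤ g.ker.index * Nat.card g.ker := by rw [hr]; exact Nat.mul_le_mul_left _ hk
        _ = _ := by rw [mul_comm, Subgroup.card_mul_index, hHc]
    calc Nat.card U = Nat.card (U ⧸ W) * Nat.card W := Subgroup.card_eq_card_quotient_mul_card_subgroup W
      _ ≤ (∏ b ∈ s, Nat.card (S b)) * ∏ b ∈ s, Nat.card ((γ (i + 1) ⊓ C b).map θ) := by
          refine Nat.mul_le_mul hquot (le_trans (le_of_eq ?_) hrec)
          exact Nat.card_congr (Subgroup.subgroupOfEquivOfLe (Subgroup.map_mono hle)).toEquiv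
      _ ≤ _ := by
          rw [← Finset.prod_mul_distrib]
          exact Finset.prod_le_prod' fun b _ => hsplit b

end CfsgLib.Coprime.DerivedBound
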