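import Cfsg.Agent.Lib.Coprime.Generation
import Cfsg.Agent.Lib.Coprime.Sylow
import Cfsg.Agent.Lib.Coprime.DerivedBound.Bounds

/-!
# Coprime action of rank three: the derived subgroup is bounded

If `A`, elementary abelian of order `q ^ 3`, acts coprimely on `K` and every `C_K(a)'`, `a ≠ 1`,
has order at most `m`, then `K'` has order bounded in terms of `q`, `m`.
-/

set_option autoImplicit false

open Subgroup

open scoped commutatorElement

namespace CfsgLib.Coprime.DerivedBound

/-- The centralisers of the large subgroups of `A`. -/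
def Big {X : Type*} [Group X] (A : Subgroup X) (q : ℕ) : Set (Subgroup X) :=
  {B | B ≤ A ∧ q ^ 2 ≤ Nat.card B}

variable {X : Type*} [Group X] [Finite X]

theorem ncard_big_le (A : Subgroup X) (q : ℕ) : (Big A q).ncard ≤ 2 ^ Nat.card A := by
  classical
  have hinj : Function.Injective fun B : Big A q => {a : A | (a : X) ∈ B.1} := by
    intro B B' e
    refine Subtype.ext (Subgroup.ext fun x => ⟨fun hx => ?_, fun hx => ?_⟩)
    · exact (Set.ext_iff.1 e ⟨x, B.2.1 hx⟩).1 hx
    · exact (Set.ext_iff.1 e ⟨x, B'.2.1 hx⟩).2 hx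
  haveI := Fintype.ofFinite A
  calc (Big A q).ncard = Nat.card (Big A q) := (Nat.card_coe_set_eq _).symm
    _ ≤ Nat.card (Set A) := Nat.card_le_card_of_injective _ hinj
    _ = 2 ^ Nat.card A := by rw [Nat.card_eq_fintype_card, Fintype.card_set, Nat.card_eq_fintype_card]

theorem le_iSup_big {A H : Subgroup X} [IsMulCommutative A] {q : ℕ} (hq : q.Prime)
    (hA : Nat.card A = q ^ 3) (hexp : ∀ a ∈ A, a ^ q = 1) (hAH : A ≤ normalizer (H : Set X))
    (hcop : (Nat.card A).Coprime (Nat.card H)) :
    H ≤ ⨆ B ∈ Big A q, H ⊓ centralizer (B : Set X) := by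
  refine (iSup_centralizer_of_cyclic_quotient hAH hcop).ge.trans (iSup₂_le fun B hB => ?_)
  obtain ⟨hBA, a, ha, e⟩ := hB
  suffices h : q ^ 2 ≤ Nat.card B from
    le_iSup₂_of_le (f := fun (B : Subgroup X) (_ : B ∈ Big A q) => H ⊓ centralizer (B : Set X))
      B (show B ∈ Big A q from ⟨hBA, h⟩) le_rfl
  have h1 : Nat.card ↥(B ⊔ zpowers a) ≤ Nat.card B * Nat.card (zpowers a) :=
    card_sup_le (zpowers_le.2 (centralizer_le_normalizer _ (mem_centralizer_iff.2 fun b hb =>
      setLike_mul_comm (s := A) (hBA hb) ha)))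
  rw [e, hA, Nat.card_zpowers] at h1
  have h2 : orderOf a ≤ q := orderOf_le_of_pow_eq_one hq.pos (hexp a ha)
  have h3 := h1.trans (Nat.mul_le_mul_left _ h2)
  rw [show q ^ 3 = q ^ 2 * q from pow_succ q 2] at h3
  exact Nat.le_of_mul_le_mul_right h3 hq.pos

/-- Two large subgroups meet nontrivially. -/
theorem exists_mem_inter {A B B' : Subgroup X} [IsMulCommutative A] {q : ℕ} (hq : q.Prime)
    (hA : Nat.card A = q ^ 3) (hB : B ∈ Big A q) (hB' : B' ∈ Big A q) :
    ∃ c ∈ A, c ≠ 1 ∧ c ∈ B ∧ c ∈ B' := by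
  by_contra hne
  push Not at hne
  have hinj : Function.Injective fun x : B × B' =>
      (⟨(x.1 : X) * x.2, A.mul_mem (hB.1 x.1.2) (hB'.1 x.2.2)⟩ : A) := by
    rintro ⟨b, b'⟩ ⟨c, c'⟩ e
    have e' : (b : X) * b' = c * c' := congrArg Subtype.val e
    have h1 : (c : X)⁻¹ * b = c' * (b' : X)⁻¹ := by
      rw [eq_mul_inv_iff_mul_eq, mul_assoc, e', inv_mul_cancel_left]
    have h2 : (c : X)⁻¹ * b = 1 := by
      by_contra h
      exact hne _ (A.mul_mem (A.inv_mem (hB.1 c.2)) (hB.1 b.2)) h
        (B.mul_mem (B.inv_mem c.2) b.2) (h1 ▸ B'.mul_mem c'.2 (B'.inv_mem b'.2))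
    have h3 : (c' : X) * (b' : X)⁻¹ = 1 := h1 ▸ h2
    exact Prod.ext (Subtype.ext (inv_mul_eq_one.1 h2).symm)
      (Subtype.ext (mul_inv_eq_one.1 h3).symm)
  have h := Nat.card_le_card_of_injective _ hinj
  rw [Nat.card_prod, hA] at h
  have := (Nat.mul_le_mul hB.2 hB'.2).trans h
  rw [← pow_add] at this
  have := (Nat.pow_le_pow_iff_right hq.one_lt).1 this
  omega

/-- The bound. -/
def bound (q m : ℕ) : ℕ :=
  let M := q ^ 3 * m
  let I := ((m ^ M) ^ (2 ^ q ^ 3)).factorial
  I ^ (I * (I * I) + 1) * m ^ M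

theorem normalizer_inf {A K : Subgroup X} {S : Set X} (hAK : A ≤ normalizer (K : Set X))
    (hS : A ≤ centralizer S) : A ≤ normalizer ((K ⊓ centralizer S : Subgroup X) : Set X) := by
  intro a ha
  refine mem_normalizer_iff.2 fun y => ?_
  rw [mem_inf, mem_inf, ← mem_normalizer_iff.1 (hAK ha) y]
  refine and_congr_right fun _ => ?_
  constructor <;> intro hy <;> refine mem_centralizer_iff.2 fun s hs => ?_
  · have h1 : a * s * a⁻¹ = s := by rw [← mem_centralizer_iff.1 (hS ha) s hs]; group
    rw [← h1, ← MulAut.conj_apply, ← MulAut.conj_apply, ← map_mul, ← map_mul,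
      mem_centralizer_iff.1 hy s hs]
  · have h1 : a * s * a⁻¹ = s := by rw [← mem_centralizer_iff.1 (hS ha) s hs]; group
    have h2 := mem_centralizer_iff.1 hy s hs
    rw [← h1, ← MulAut.conj_apply, ← MulAut.conj_apply, ← map_mul, ← map_mul] at h2
    exact (MulAut.conj a).injective h2

theorem normalizer_commutator {A H : Subgroup X} (h : A ≤ normalizer (H : Set X)) :
    A ≤ normalizer ((⁅H, H⁆ : Subgroup X) : Set X) := by
  intro a ha
  refine mem_normalizer_iff.2 fun y => ?_
  have hmap : H.map (MulAut.conj a).toMonoidHom = H := by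
    refine SetLike.ext fun z => ⟨?_, fun hz => ?_⟩
    · rintro ⟨w, hw, rfl⟩; exact (mem_normalizer_iff.1 (h ha) w).1 hw
    · exact ⟨a⁻¹ * z * a, (mem_normalizer_iff.1 (h ha) _).2 (by group; exact hz), by
        simp only [MulEquiv.coe_toMonoidHom, MulAut.conj_apply]; group⟩
  have hc : (⁅H, H⁆ : Subgroup X).map (MulAut.conj a).toMonoidHom = ⁅H, H⁆ := by
    rw [map_commutator, hmap]
  constructor
  · intro hy
    exact hc.le ⟨y, hy, rfl⟩
  · intro hy
    rw [← hc] at hy
    obtain ⟨w, hw, e⟩ := hy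
    exact (MulAut.conj a).injective e ▸ hw

/-- The theorem. -/
theorem card_commutator_le {A K : Subgroup X} [IsMulCommutative A] {q : ℕ} (hq : q.Prime)
    (hA : Nat.card A = q ^ 3) (hexp : ∀ a ∈ A, a ^ q = 1) (hAK : A ≤ normalizer (K : Set X))
    (hcop : (Nat.card A).Coprime (Nat.card K)) {m : ℕ}
    (hm : ∀ a ∈ A, a ≠ 1 →
      Nat.card ↥(⁅K ⊓ centralizer {a}, K ⊓ centralizer {a}⁆ : Subgroup X) ≤ m) :
    Nat.card ↥(⁅K, K⁆ : Subgroup X) ≤ bound q m := by
  classical
  haveI := Fintype.ofFinite X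
  set Cd : X → Subgroup X := fun a => ⁅K ⊓ centralizer {a}, K ⊓ centralizer {a}⁆ with hCd
  set M := q ^ 3 * m with hM
  -- the pieces
  set X0 : Set X := {u | ∃ a ∈ A, a ≠ 1 ∧ u ∈ Cd a ∧ ∃ B ∈ Big A q, u ∈ centralizer (B : Set X)}
    with hX0
  set D := closure X0 with hD
  have hCdK : ∀ a, Cd a ≤ K := fun a => (commutator_le_self _).trans inf_le_left
  have hDK : D ≤ K := (closure_le _).2 fun u ⟨a, _, _, hu, _⟩ => hCdK a hu
  have hAa : ∀ a ∈ A, A ≤ centralizer {a} := fun a ha b hb => mem_centralizer_iff.2 fun s hs => by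
    rw [Set.mem_singleton_iff.1 hs]; exact setLike_mul_comm (s := A) ha hb
  have hCdD : ∀ a ∈ A, a ≠ 1 → Cd a ≤ D := by
    intro a ha ha1
    refine (le_iSup_big hq hA hexp (normalizer_commutator (normalizer_inf hAK (hAa a ha)))
      (coprime_of_le hcop le_rfl (hCdK a))).trans (iSup₂_le fun B hB u hu => ?_)
    exact subset_closure ⟨a, ha, ha1, hu.1, B, hB, hu.2⟩
  have hpair : ∀ B ∈ Big A q, ∀ B' ∈ Big A q, ∀ x ∈ K ⊓ centralizer (B : Set X),
      ∀ u ∈ K ⊓ centralizer (B' : Set X), ∃ c ∈ A, c ≠ 1 ∧ ⁅x, u⁆ ∈ Cd c := by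
    intro B hB B' hB' x hx u hu
    obtain ⟨c, hcA, hc1, hcB, hcB'⟩ := exists_mem_inter hq hA hB hB'
    exact ⟨c, hcA, hc1, commutator_mem_commutator
      ⟨hx.1, centralizer_le (Set.singleton_subset_iff.2 hcB) hx.2⟩
      ⟨hu.1, centralizer_le (Set.singleton_subset_iff.2 hcB') hu.2⟩⟩
  have hgenK : K ≤ ⨆ B ∈ Big A q, K ⊓ centralizer (B : Set X) :=
    le_iSup_big hq hA hexp hAK hcop
  have hX0K : ∀ u ∈ X0, u ∈ K := fun u ⟨a, _, _, hu, _⟩ => hCdK a hu
  have hshift : ∀ B ∈ Big A q, ∀ x ∈ K ⊓ centralizer (B : Set X), ∀ u ∈ X0,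
      ∃ c ∈ A, c ≠ 1 ∧ ⁅x, u⁆ ∈ Cd c := by
    rintro B hB x hx u ⟨a, ha, ha1, hu, B', hB', huB⟩
    exact hpair B hB B' hB' x hx u ⟨hCdK a hu, huB⟩
  have hKD : K ≤ normalizer (D : Set X) := by
    refine hgenK.trans (iSup₂_le fun B hB x hx => ?_)
    have hle : D.map (MulAut.conj x).toMonoidHom ≤ D := by
      rw [hD, MonoidHom.map_closure, closure_le]
      rintro _ ⟨u, hu, rfl⟩
      obtain ⟨c, hcA, hc1, hc⟩ := hshift B hB x hx u hu
      show x * u * x⁻¹ ∈ D
      rw [show x * u * x⁻¹ = ⁅x, u⁆ * u by rw [commutatorElement_def]; group]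
      exact D.mul_mem (hCdD c hcA hc1 hc) (subset_closure hu)
    have heq : D.map (MulAut.conj x).toMonoidHom = D :=
      eq_of_le_of_card_ge hle (le_of_eq (card_map_of_injective (MulAut.conj x).injective).symm)
    refine mem_normalizer_iff.2 fun y => ⟨fun hy => heq.le ⟨y, hy, rfl⟩, fun hy => ?_⟩
    rw [← heq] at hy
    obtain ⟨w, hw, e⟩ := hy
    exact (MulAut.conj x).injective e ▸ hw
  set D0 := D.subgroupOf K with hD0
  haveI hD0n : D0.Normal := normal_subgroupOf_of_le_normalizer hKD
  let θ : K →* MulAut D0 := MulAut.conjNormal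
  have hθval : ∀ (x : K) (d : D0), ((θ x d : D0) : K) = x * (d : K) * x⁻¹ :=
    fun x d => MulAut.conjNormal_apply x d
  have hMpos : 0 < m := by
    obtain ⟨a, ha⟩ : ∃ a : A, a ≠ 1 := by
      haveI : Nontrivial A := Finite.one_lt_card_iff_nontrivial.1 (by
        rw [hA]; exact Nat.one_lt_pow (by norm_num) hq.one_lt)
      exact exists_ne 1
    exact lt_of_lt_of_le Nat.card_pos (hm a a.2 fun h => ha (Subtype.ext h))
  have hcardA0 : (Finset.univ.filter fun a : X => a ∈ A ∧ a ≠ 1).card ≤ q ^ 3 := by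
    rw [← hA, Nat.card_eq_fintype_card, ← Fintype.card_coe]
    exact Fintype.card_le_of_injective
      (fun a => (⟨a.1, (Finset.mem_filter.1 a.2).2.1⟩ : A))
      fun a b e => Subtype.ext (congrArg Subtype.val e :)
  have hcardX0 : Nat.card X0 ≤ M := by
    let s := Finset.univ.filter fun a : X => a ∈ A ∧ a ≠ 1
    have hsub : X0 ⊆ ↑(s.biUnion fun a => Finset.univ.filter fun u : X => u ∈ Cd a) := by
      rintro u ⟨a, ha, ha1, hu, -⟩
      simp only [Finset.coe_biUnion, Set.mem_iUnion, Finset.mem_coe, Finset.mem_filter,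
        Finset.mem_univ, true_and, s]
      exact ⟨a, ⟨ha, ha1⟩, hu⟩
    rw [Nat.card_coe_set_eq]
    refine (Set.ncard_le_ncard hsub (Set.toFinite _)).trans ?_
    rw [Set.ncard_coe_finset]
    refine (Finset.card_biUnion_le_card_mul s _ m fun a ha => ?_).trans (Nat.mul_le_mul_right m hcardA0)
    obtain ⟨-, ha, ha1⟩ := Finset.mem_filter.1 ha
    refine le_trans (le_of_eq ?_) (hm a ha ha1)
    rw [← Fintype.card_subtype, ← Nat.card_eq_fintype_card]
  -- each `C_K(B)` acts through a bounded group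
  have hpiece : ∀ B ∈ Big A q,
      Nat.card (((K ⊓ centralizer (B : Set X)).subgroupOf K).map θ) ≤ m ^ M := by
    intro B hB
    set H := ((K ⊓ centralizer (B : Set X)).subgroupOf K).map θ
    have hex : ∀ u : X0, ∃ c : X, c ∈ A ∧ c ≠ 1 ∧
        ∀ x ∈ K ⊓ centralizer (B : Set X), ⁅x, (u : X)⁆ ∈ Cd c := by
      rintro ⟨u, a, ha, ha1, hu, B', hB', huB⟩
      obtain ⟨c, hcA, hc1, hcB, hcB'⟩ := exists_mem_inter hq hA hB hB'
      exact ⟨c, hcA, hc1, fun x hx => commutator_mem_commutator
        ⟨hx.1, centralizer_le (Set.singleton_subset_iff.2 hcB) hx.2⟩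
        ⟨hCdK a hu, centralizer_le (Set.singleton_subset_iff.2 hcB') huB⟩⟩
    choose c hcA hc1 hc using hex
    let gen : X0 → D0 := fun u => ⟨⟨u, hX0K u u.2⟩, subset_closure u.2⟩
    have hval : ∀ (σ : H) (u : X0),
        ((((σ : MulAut D0) (gen u) : D0) : K) : X) * (u : X)⁻¹ ∈ Cd (c u) := by
      rintro ⟨σ, x, hx, rfl⟩ u
      have := hc u x hx
      rw [commutatorElement_def] at this
      rw [hθval]
      exact this
    have hinj : Function.Injective
        fun (σ : H) (u : X0) => (⟨_, hval σ u⟩ : Cd (c u)) := by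
      rintro ⟨σ, x, hx, rfl⟩ ⟨σ', y, hy, rfl⟩ e
      refine Subtype.ext (MulEquiv.ext fun d => Subtype.ext (Subtype.ext ?_))
      rw [hθval, hθval]
      show (x : X) * ((d : K) : X) * (x : X)⁻¹ = (y : X) * ((d : K) : X) * (y : X)⁻¹
      have hgen : ∀ z ∈ D, (x : X) * z * (x : X)⁻¹ = (y : X) * z * (y : X)⁻¹ := by
        intro z hz
        induction hz using closure_induction with
        | mem u hu =>
          have h1 := congrArg Subtype.val (congrFun e ⟨u, hu⟩)
          simp only [hθval] at h1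
          exact mul_right_cancel h1
        | one => simp
        | mul u v _ _ hu hv =>
          calc (x : X) * (u * v) * (x : X)⁻¹
              = ((x : X) * u * (x : X)⁻¹) * ((x : X) * v * (x : X)⁻¹) := by group
            _ = (y : X) * (u * v) * (y : X)⁻¹ := by rw [hu, hv]; group
        | inv u _ hu =>
          calc (x : X) * u⁻¹ * (x : X)⁻¹ = ((x : X) * u * (x : X)⁻¹)⁻¹ := by group
            _ = (y : X) * u⁻¹ * (y : X)⁻¹ := by rw [hu]; group
      exact hgen _ d.2
    refine (Nat.card_le_card_of_injective _ hinj).trans ?_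
    rw [Nat.card_pi]
    refine (Finset.prod_le_pow_card _ _ m fun u _ => hm _ (hcA u) (hc1 u)).trans ?_
    rw [Finset.card_univ, ← Nat.card_eq_fintype_card]
    exact Nat.pow_le_pow_right hMpos hcardX0
  -- each Sylow part of the range is bounded
  set L := (m ^ M) ^ (2 ^ q ^ 3) with hL
  have hrange : Nat.card θ.range ∣ L.factorial := by
    refine (Nat.dvd_iff_prime_pow_dvd_dvd _ _).2 fun p k hp hk => ?_
    haveI : Fact p.Prime := ⟨hp⟩
    obtain ⟨P, hP⟩ := exists_invariant_sylow hAK hcop
      (.inl (Group.isSolvable_of_comm fun a b => mul_comm' a b)) p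
    haveI : Group.IsNilpotent (P : Subgroup K) := P.isPGroup'.isNilpotent
    let θP : (P : Subgroup K) →* MulAut D0 := θ.comp (P : Subgroup K).subtype
    let sB := (Set.toFinite (Big A q)).toFinset
    let C : Subgroup X → Subgroup (P : Subgroup K) := fun B =>
      (centralizer (B : Set X)).comap (K.subtype.comp (P : Subgroup K).subtype)
    have hbound : Nat.card θP.range ≤ L := by
      refine (card_range_le_prod θP sB C fun i => ?_).trans ?_
      · set S := (⊤ : Subgroup (P : Subgroup K)).lowerCentralSeries i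
        set ι := K.subtype.comp (P : Subgroup K).subtype
        have hιinj : Function.Injective ι :=
          K.subtype_injective.comp (P : Subgroup K).subtype_injective
        have hSK : S.map ι ≤ K := by rintro _ ⟨y, -, rfl⟩; exact ((y : K)).2
        have hAS : A ≤ normalizer ((S.map ι : Subgroup X) : Set X) := by
          have hchar : ∀ j, A ≤ normalizer
              ((((⊤ : Subgroup (P : Subgroup K)).lowerCentralSeries j).map ι : Subgroup X) : Set X) := by
            intro j a ha
            set PX := (P : Subgroup K).map K.subtype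
            have hmap : ∀ j, (((⊤ : Subgroup (P : Subgroup K)).lowerCentralSeries j).map ι).map
                (MulAut.conj a).toMonoidHom =
                ((⊤ : Subgroup (P : Subgroup K)).lowerCentralSeries j).map ι := by
              intro j
              have hPX : PX.map (MulAut.conj a).toMonoidHom = PX := by
                refine SetLike.ext fun z => ⟨?_, fun hz => ?_⟩
                · rintro ⟨w, hw, rfl⟩; exact (mem_normalizer_iff.1 (hP ha) w).1 hw
                · exact ⟨a⁻¹ * z * a, (mem_normalizer_iff.1 (hP ha) _).2 (by group; exact hz), by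
                    simp only [MulEquiv.coe_toMonoidHom, MulAut.conj_apply]; group⟩
              have htop : (⊤ : Subgroup (P : Subgroup K)).map ι = PX := by
                rw [← map_map, ← MonoidHom.range_eq_map, range_subtype]
              rw [map_lowerCentralSeries, map_lowerCentralSeries, htop, hPX]
            refine mem_normalizer_iff.2 fun y => ⟨fun hy => (hmap j).le ⟨y, hy, rfl⟩, fun hy => ?_⟩
            rw [← hmap j] at hy
            obtain ⟨w, hw, e⟩ := hy
            exact (MulAut.conj a).injective e ▸ hw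
          exact hchar i
        have h1 := le_iSup_big hq hA hexp hAS (coprime_of_le hcop le_rfl hSK)
        intro y hy
        have h2 : ι y ∈ (⨆ B ∈ sB, S ⊓ C B).map ι := by
          refine (h1.trans (iSup₂_le fun B hB => ?_)) ⟨y, hy, rfl⟩
          rintro _ ⟨⟨z, hz, rfl⟩, hzB⟩
          exact ⟨z, le_iSup₂ (f := fun B _ => S ⊓ C B) B ((Set.Finite.mem_toFinset _).2 hB)
            ⟨hz, hzB⟩, rfl⟩
        obtain ⟨y', hy', e⟩ := h2
        exact hιinj e ▸ hy'
      · refine (Finset.prod_le_pow_card _ _ (m ^ M) fun B hB => ?_).trans ?_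
        · refine le_trans (Subgroup.card_le_of_le ?_) (hpiece B ((Set.Finite.mem_toFinset _).1 hB))
          rintro _ ⟨y, hy, rfl⟩
          exact ⟨(y : K), ⟨(y : K).2, hy⟩, rfl⟩
        · refine Nat.pow_le_pow_right (Nat.pos_of_ne_zero (pow_ne_zero _ hMpos.ne')) ?_
          rw [← Set.ncard_eq_toFinset_card _ (Set.toFinite _), ← hA]
          exact ncard_big_le A q
    have hR : θP.range = (P : Subgroup K).map θ := by
      rw [MonoidHom.range_comp, range_subtype]
    obtain ⟨t, ht⟩ := (P.isPGroup'.map θ).exists_card_eq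
    have hidx : ¬ p ∣ ((P : Subgroup K).map θ.rangeRestrict).index := fun h =>
      P.not_dvd_index (h.trans (index_map_dvd _ θ.rangeRestrict_surjective))
    have hcardmap : Nat.card ((P : Subgroup K).map θ.rangeRestrict) = p ^ t := by
      rw [← card_map_of_injective θ.range.subtype_injective, map_map,
        MonoidHom.subtype_comp_rangeRestrict, ht]
    have hk' : p ^ k ∣ p ^ t := by
      rw [← hcardmap]
      refine ((hp.coprime_iff_not_dvd.2 hidx).pow_left k).dvd_of_dvd_mul_right ?_
      rw [Subgroup.card_mul_index]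
      exact hk
    refine Nat.dvd_factorial (pow_pos hp.pos k) ?_
    refine (Nat.le_of_dvd (pow_pos hp.pos t) hk').trans ?_
    rw [← ht, ← hR]
    exact hbound
  set I := L.factorial with hI
  -- the centre of `D` has index at most `I`
  have hcen : (center D0).index ≤ I := by
    refine le_trans ?_ (Nat.le_of_dvd (Nat.factorial_pos _) hrange)
    let ψ : D0 →* MulAut D0 := θ.comp D0.subtype
    have hker : ψ.ker ≤ center D0 := fun d hd => mem_center_iff.2 fun e => by
      have h1 := congrArg Subtype.val (DFunLike.congr_fun (MonoidHom.mem_ker.1 hd) e)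
      rw [show ψ d = θ (d : K) from rfl, hθval] at h1
      refine Subtype.ext ?_
      show (e : K) * (d : K) = (d : K) * (e : K)
      have h2 : (d : K) * (e : K) * (d : K)⁻¹ = (e : K) := h1
      calc (e : K) * (d : K) = ((d : K) * (e : K) * (d : K)⁻¹) * (d : K) := by rw [h2]
        _ = _ := by group
    refine (Nat.le_of_dvd (Nat.pos_of_ne_zero index_ne_zero_of_finite) (index_dvd_of_le hker)).trans ?_
    rw [index_ker]
    exact card_le_of_le (by rintro _ ⟨d, rfl⟩; exact ⟨_, rfl⟩)
  have hD' := card_commutator_le_of_index_center hcen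
  -- the abelianisation
  have hab : Nat.card (D0 ⧸ commutator D0) ≤ m ^ M := by
    haveI : Fintype X0 := Fintype.ofFinite X0
    let g : X0 → D0 ⧸ commutator D0 := fun u =>
      QuotientGroup.mk' _ (⟨⟨u, hX0K u u.2⟩, subset_closure u.2⟩ : D0)
    refine (card_le_prod_of_comm (fun a b => ?_) (Finset.univ : Finset X0) (fun u => zpowers (g u)) ?_).trans ?_
    · induction a using QuotientGroup.induction_on with
      | H a =>
        induction b using QuotientGroup.induction_on with
        | H b =>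
          rw [← QuotientGroup.mk_mul, ← QuotientGroup.mk_mul, QuotientGroup.eq]
          have := commutator_mem_commutator (mem_top b⁻¹) (mem_top a⁻¹)
          rw [← _root_.commutator_def] at this
          simpa [commutatorElement_def, mul_assoc] using this
    · intro z hz
      clear hz
      induction z using QuotientGroup.induction_on with
      | H d =>
        obtain ⟨⟨d, hdK⟩, hdD⟩ := d
        change d ∈ D at hdD
        suffices ∃ (h1 : d ∈ K) (h2 : d ∈ D),
            ((⟨⟨d, h1⟩, h2⟩ : D0) : D0 ⧸ commutator D0) ∈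
              ⨆ u ∈ (Finset.univ : Finset X0), zpowers (g u) by
          obtain ⟨_, _, h⟩ := this
          exact h
        clear hdK
        induction hdD using closure_induction with
        | mem u hu =>
          exact ⟨hX0K u hu, subset_closure hu, le_iSup₂ (f := fun v _ => zpowers (g v))
            (⟨u, hu⟩ : X0) (Finset.mem_univ _) (mem_zpowers _)⟩
        | one => exact ⟨K.one_mem, D.one_mem, one_mem _⟩
        | mul u v _ _ hu hv =>
          obtain ⟨a1, a2, ha⟩ := hu
          obtain ⟨b1, b2, hb⟩ := hv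
          exact ⟨K.mul_mem a1 b1, D.mul_mem a2 b2, mul_mem ha hb⟩
        | inv u _ hu =>
          obtain ⟨a1, a2, ha⟩ := hu
          exact ⟨K.inv_mem a1, D.inv_mem a2, inv_mem ha⟩
    · refine (Finset.prod_le_pow_card _ _ m fun u _ => ?_).trans ?_
      · rw [Nat.card_zpowers]
        obtain ⟨a, ha, ha1, hu, -⟩ := u.2
        refine le_trans ?_ (hm a ha ha1)
        refine le_trans (Nat.le_of_dvd (orderOf_pos _) (orderOf_map_dvd _ _)) ?_
        rw [← Subgroup.orderOf_coe, ← Subgroup.orderOf_coe]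
        show orderOf (u : X) ≤ _
        exact Nat.le_of_dvd Nat.card_pos (orderOf_dvd_natCard _ hu)
      · rw [Finset.card_univ, ← Nat.card_eq_fintype_card]
        exact Nat.pow_le_pow_right hMpos hcardX0
  -- `K' ≤ D`
  have hK'D : ⁅K, K⁆ ≤ D := by
    have hmain : ∀ B ∈ Big A q, ∀ x ∈ K ⊓ centralizer (B : Set X),
        ∀ y ∈ K, ⁅x, y⁆ ∈ D := by
      intro B hB x hx y hy
      have hy' : y ∈ closure (⋃ B ∈ Big A q, ((K ⊓ centralizer (B : Set X) : Subgroup X) : Set X)) := by
        refine hgenK.trans (iSup₂_le fun B' hB' z hz => ?_) hy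
        exact subset_closure (Set.mem_biUnion hB' hz)
      have hsub : closure (⋃ B ∈ Big A q, ((K ⊓ centralizer (B : Set X) : Subgroup X) : Set X)) ≤ K :=
        (closure_le _).2 (Set.iUnion₂_subset fun B _ z hz => hz.1)
      clear hy
      induction hy' using closure_induction with
      | mem z hz =>
        obtain ⟨B', hB', hz⟩ := Set.mem_iUnion₂.1 hz
        obtain ⟨c, hcA, hc1, hc⟩ := hpair B hB B' hB' x hx z hz
        exact hCdD c hcA hc1 hc
      | one => simp
      | mul u v hu hv h1 h2 =>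
        rw [show ⁅x, u * v⁆ = ⁅x, u⁆ * (u * ⁅x, v⁆ * u⁻¹) by simp only [commutatorElement_def]; group]
        exact D.mul_mem h1 ((mem_normalizer_iff.1 (hKD (hsub hu)) _).1 h2)
      | inv u hu h1 =>
        rw [show ⁅x, u⁻¹⁆ = u⁻¹ * ⁅x, u⁆⁻¹ * u⁻¹⁻¹ by simp only [commutatorElement_def]; group]
        exact (mem_normalizer_iff.1 (hKD (K.inv_mem (hsub hu))) _).1 (D.inv_mem h1)
    refine commutator_le.2 fun x hx y hy => ?_
    have hx' : x ∈ closure (⋃ B ∈ Big A q, ((K ⊓ centralizer (B : Set X) : Subgroup X) : Set X)) := by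
      refine hgenK.trans (iSup₂_le fun B' hB' z hz => ?_) hx
      exact subset_closure (Set.mem_biUnion hB' hz)
    have hsub : closure (⋃ B ∈ Big A q, ((K ⊓ centralizer (B : Set X) : Subgroup X) : Set X)) ≤ K :=
      (closure_le _).2 (Set.iUnion₂_subset fun B _ z hz => hz.1)
    clear hx
    induction hx' using closure_induction with
    | mem z hz =>
      obtain ⟨B', hB', hz⟩ := Set.mem_iUnion₂.1 hz
      exact hmain B' hB' z hz y hy
    | one => simp
    | mul u v hu hv h1 h2 =>
      rw [show ⁅u * v, y⁆ = (u * ⁅v, y⁆ * u⁻¹) * ⁅u, y⁆ by simp only [commutatorElement_def]; group]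
      exact D.mul_mem ((mem_normalizer_iff.1 (hKD (hsub hu)) _).1 h2) h1
    | inv u hu h1 =>
      rw [show ⁅u⁻¹, y⁆ = u⁻¹ * ⁅u, y⁆⁻¹ * u⁻¹⁻¹ by simp only [commutatorElement_def]; group]
      exact (mem_normalizer_iff.1 (hKD (K.inv_mem (hsub hu))) _).1 (D.inv_mem h1)
  refine (card_le_of_le hK'D).trans ?_
  rw [← Nat.card_congr (subgroupOfEquivOfLe hDK).toEquiv]
  show Nat.card D0 ≤ _
  rw [card_eq_card_quotient_mul_card_subgroup (commutator D0), bound, mul_comm]
  exact Nat.mul_le_mul hD' hab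

end CfsgLib.Coprime.DerivedBound
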